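import Mathlib
import Groth.Agent.CycBdlLib.Pts
import Groth.Agent.EGA2SymLib.LocalCrit

/-!
# The canonical immersion of a quasi-affine scheme into the relative spectrum of its direct image
-/

set_option autoImplicit false
universe u
open CategoryTheory CategoryTheory.Limits AlgebraicGeometry TopologicalSpace Opposite

noncomputable section

namespace QAffFactorLib

variable {X Y : Scheme.{u}} (C : RelSpec.QCAlg Y)

theorem isIso_ι_appLE {U : Y.Opens} (hU : IsAffineOpen U) :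
    IsIso ((C.ι U hU).appLE (C.π ⁻¹ᵁ U) ⊤ (C.top_le_preimage U hU)) := by
  haveI := CycBdlLib.isIso_gammaMap C
  haveI : IsIso (C.gammaMap.app (op U)) := ((asIso C.gammaMap).app (op U)).isIso_hom
  haveI : IsIso (C.gammaAff U hU) := C.gammaMap_app U hU ▸ inferInstance
  exact IsIso.of_isIso_fac_right (h := C.gammaAff U hU) rfl

/-- a morphism whose sections agree with those of the spectrum factors through `toSpecΓ` on a chart -/
theorem exists_chart_factor (g : X ⟶ C.spec) {U : Y.Opens} (hU : IsAffineOpen U) {W : X.Opens}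
    (hW : W ≤ g ⁻¹ᵁ (C.π ⁻¹ᵁ U)) (e : C.presheaf.obj (op U) ⟶ Γ(X, W))
    (he : g.appLE (C.π ⁻¹ᵁ U) W hW = C.gammaAff U hU ≫ e) :
    W.ι ≫ g = (W : Scheme.{u}).toSpecΓ ≫ Spec.map (e ≫ W.topIso.inv) ≫ C.ι U hU := by
  have hrange : Set.range (W.ι ≫ g).base ⊆ Set.range (C.ι U hU).base := by
    rintro _ ⟨w, rfl⟩
    exact (C.π_preimage U hU).le (x := g w.1) (hW w.2)
  let gU := IsOpenImmersion.lift (C.ι U hU) (W.ι ≫ g) hrange
  have hgU : gU ≫ C.ι U hU = W.ι ≫ g := IsOpenImmersion.lift_fac _ _ _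
  haveI := isIso_ι_appLE C hU
  have hkey : (Scheme.ΓSpecIso (C.presheaf.obj (op U))).hom ≫ e ≫ W.topIso.inv = gU.appTop := by
    refine (cancel_epi ((C.ι U hU).appLE (C.π ⁻¹ᵁ U) ⊤ (C.top_le_preimage U hU))).mp ?_
    rw [← Category.assoc, show _ ≫ (Scheme.ΓSpecIso (C.presheaf.obj (op U))).hom = C.gammaAff U hU from rfl,
      ← Category.assoc, ← he]
    have h1 : ∀ {k k' : (W : Scheme.{u}) ⟶ C.spec} (_ : k = k') (a : ⊤ ≤ k ⁻¹ᵁ (C.π ⁻¹ᵁ U))
        (a' : ⊤ ≤ k' ⁻¹ᵁ (C.π ⁻¹ᵁ U)), k.appLE (C.π ⁻¹ᵁ U) ⊤ a = k'.appLE (C.π ⁻¹ᵁ U) ⊤ a' := by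
      intro k k' a _ _; subst a; rfl
    have h2 : W.topIso.inv = W.ι.appLE W ⊤ W.ι_preimage_self.ge := by
      simp only [Scheme.Hom.appLE, Scheme.Opens.ι_app, Scheme.Opens.topIso_inv, Scheme.Opens.toScheme_presheaf_map,
        ← Functor.map_comp, eqToHom_op]
      refine Eq.trans ?_ (X.presheaf.map_comp _ _)
      exact congrArg (fun i => X.presheaf.map i) (Subsingleton.elim _ _)
    rw [h2, show gU.appTop = gU.appLE ⊤ ⊤ le_top from Scheme.Hom.app_eq_appLE _,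
      Scheme.Hom.appLE_comp_appLE, Scheme.Hom.appLE_comp_appLE]
    exact h1 hgU.symm _ _
  rw [← hgU, ← Category.assoc]
  congr 1
  refine (cancel_mono (Spec (C.presheaf.obj (op U))).toSpecΓ).mp ?_
  rw [Scheme.toSpecΓ_naturality, ← hkey, Spec.map_comp, Spec.map_comp, Category.assoc, Category.assoc, Category.assoc,
    SpecMap_ΓSpecIso_hom]

/-- a quasi-affine morphism factors by an immersion into the spectrum of its direct image -/
theorem exists_immersion_directImage (f : X ⟶ Y) [QuasiCompact f] [QuasiSeparated f]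
    (hf : ∀ U : Y.Opens, IsAffineOpen U → Scheme.IsQuasiAffine (f ⁻¹ᵁ U : Scheme.{u})) :
    ∃ g : X ⟶ (RelSpec.QCAlg.directImage f).spec,
      g ≫ (RelSpec.QCAlg.directImage f).π = f ∧ IsImmersion g := by
  obtain ⟨g, ⟨hg, he⟩, -⟩ := CycBdlLib.pts (RelSpec.QCAlg.directImage f) f (𝟙 _)
  refine ⟨g, hg, EGA2SymLib.isImmersion_of_targets g fun x => ?_⟩
  obtain ⟨U, hU, hxU, -⟩ := exists_isAffineOpen_mem_and_subset (X := Y) (x := f x) (U := ⊤) trivial
  haveI := hf U hU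
  have h0 : g.appLE ((RelSpec.QCAlg.directImage f).π ⁻¹ᵁ U) (f ⁻¹ᵁ U) (CycBdlLib.preimage_le hg U) =
      (RelSpec.QCAlg.directImage f).gammaAff U hU ≫ 𝟙 Γ(X, f ⁻¹ᵁ U) := by
    haveI := CycBdlLib.isIso_gammaMap (RelSpec.QCAlg.directImage f)
    refine CommRingCat.hom_ext (RingHom.ext fun b => ?_)
    obtain ⟨a, rfl⟩ := (ConcreteCategory.bijective_of_isIso
      ((asIso (RelSpec.QCAlg.directImage f).gammaMap).app (op U)).inv).2 b
    refine (CycBdlLib.toF_algHom_app (RelSpec.QCAlg.directImage f) f g hg U a).symm.trans ?_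
    rw [he, ← (RelSpec.QCAlg.directImage f).gammaMap_app U hU]
    exact (congr($(((asIso (RelSpec.QCAlg.directImage f).gammaMap).app (op U)).inv_hom_id) a)).symm
  have hk := exists_chart_factor (RelSpec.QCAlg.directImage f) g hU (CycBdlLib.preimage_le hg U) (𝟙 _) h0
  refine ⟨(RelSpec.QCAlg.directImage f).π ⁻¹ᵁ U, ?_, ?_⟩
  · show (RelSpec.QCAlg.directImage f).π (g x) ∈ U
    rw [← Scheme.Hom.comp_apply, hg]
    exact hxU
  · have e : g ⁻¹ᵁ ((RelSpec.QCAlg.directImage f).π ⁻¹ᵁ U) = f ⁻¹ᵁ U := by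
      rw [← Scheme.Hom.comp_preimage, hg]
    rw [e, hk]
    haveI : IsOpenImmersion ((RelSpec.QCAlg.directImage f).ι U hU) := inferInstance
    have key : ∀ {Z : Scheme.{u}} {R : CommRingCat.{u}} (k : R ⟶ Γ((f ⁻¹ᵁ U : Scheme.{u}), ⊤)) (_ : IsIso k)
        (m : Spec R ⟶ Z) [IsOpenImmersion m], IsImmersion ((f ⁻¹ᵁ U : Scheme.{u}).toSpecΓ ≫ Spec.map k ≫ m) := by
      intro Z R k _ m _
      infer_instance
    exact key _ (@IsIso.comp_isIso _ _ _ _ _ _ _ (IsIso.id _) inferInstance) _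

end QAffFactorLib

end
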